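import Groth.Agent.Lib.FlatH4.LocCrit
import Mathlib.RingTheory.Smooth.Fiber
import Mathlib.RingTheory.Smooth.Flat
import Mathlib.RingTheory.Flat.Localization
import Mathlib.RingTheory.Kaehler.TensorProduct
import Mathlib.RingTheory.Support

/-!
# Smooth and étale points from smooth or étale infinitesimal neighbourhoods
-/

universe u

open TensorProduct IsLocalRing

namespace Groth.Agent.InfSmooth4

variable {A B : Type u} [CommRing A] [CommRing B] [Algebra A B]

/-- The fibre criterion of smoothness, with flatness only at the point. -/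
theorem isSmoothAt_of_formallySmooth_fiber [Algebra.FinitePresentation A B] (p : Ideal A)
    (q : Ideal B) [p.IsPrime] [q.IsPrime] [q.LiesOver p]
    [Algebra.FormallySmooth p.ResidueField (p.Fiber B)]
    [Module.Flat A (Localization.AtPrime q)] : Algebra.IsSmoothAt A q := by
  let Rp := Localization.AtPrime p
  let Sp := Localization (Algebra.algebraMapSubmonoid B p.primeCompl)
  let Sq := Localization.AtPrime q
  let := Localization.AtPrime.algebraOfLiesOver p q
  let f : Sp →ₐ[B] Sq := IsLocalization.liftAlgHom (M := Algebra.algebraMapSubmonoid B p.primeCompl)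
        (f := Algebra.ofId _ _) (by
      rintro ⟨_, x, hx, rfl⟩
      simpa using! IsLocalization.map_units (M := q.primeCompl) Sq ⟨algebraMap _ _ x,
        by simp_all [q.over_def p]⟩)
  algebraize [f.toRingHom]
  have : IsScalarTower A Sp Sq := .to₁₃₄ _ B _ _
  have : IsScalarTower Rp Sp Sq := .of_algebraMap_eq' <| by
    apply IsLocalization.ringHom_ext p.primeCompl
    simp only [RingHom.comp_assoc, ← IsScalarTower.algebraMap_eq]
  have : IsLocalization (Algebra.algebraMapSubmonoid Sp q.primeCompl) Sq :=
    .isLocalization_of_submonoid_le _ _ (Algebra.algebraMapSubmonoid B p.primeCompl) _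
    (by rintro _ ⟨x, hx, rfl⟩; simp_all [q.over_def p])
  have : Algebra.FinitePresentation Rp Sp := by
    have : Algebra.IsPushout A Rp B Sp :=
      .symm <| Algebra.isPushout_of_isLocalization p.primeCompl _ _ _
    exact .equiv (Algebra.IsPushout.equiv A Rp B Sp)
  have : Module.Flat Rp Sq :=
    (Module.flat_iff_of_isLocalization Rp p.primeCompl Sq).2 inferInstance
  have : Algebra.FormallySmooth (ResidueField Rp) (ResidueField Rp ⊗[Rp] Sq) := by
    let : Algebra B (ResidueField Rp ⊗[A] B) := Algebra.TensorProduct.rightAlgebra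
    have : Algebra.FormallySmooth (ResidueField Rp) ((ResidueField Rp ⊗[A] B) ⊗[B] Sq) :=
      .comp _ (ResidueField Rp ⊗[A] B) _
    let e : ResidueField Rp ⊗[A] B ≃ₐ[B] B ⊗[A] ResidueField Rp :=
      { __ := Algebra.TensorProduct.comm _ _ _, commutes' _ := rfl }
    let e' : (ResidueField Rp ⊗[A] B) ⊗[B] Sq ≃ₐ[A] ResidueField Rp ⊗[Rp] Sq :=
      ((Algebra.TensorProduct.comm _ _ _).restrictScalars A).trans <|
      ((Algebra.TensorProduct.congr (.refl (R := B)) e).restrictScalars A).trans <|
      ((Algebra.TensorProduct.cancelBaseChange _ _ B _ _).restrictScalars A).trans <|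
      (Algebra.TensorProduct.comm _ _ _).trans (Algebra.TensorProduct.equivOfCompatibleSMul ..)
    have : e'.toAlgHom.comp (IsScalarTower.toAlgHom A p.ResidueField _) =
        IsScalarTower.toAlgHom _ _ _ := by ext
    let e'' : (ResidueField Rp ⊗[A] B) ⊗[B] Sq ≃ₐ[ResidueField Rp] ResidueField Rp ⊗[Rp] Sq :=
      { __ := e', commutes' r := congr($this r) }
    exact .of_equiv e''
  have := Algebra.FormallySmooth.of_formallySmooth_residueField_tensor
    (R := Rp) (S := Sq) (P := Sp) (Algebra.algebraMapSubmonoid _ q.primeCompl)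
  exact .comp A Rp Sq

/-- If all `B / IⁿB` are flat over `A / Iⁿ`, then `B` is flat over `A` at the primes over `I`. -/
theorem flat_localization_of_forall [IsNoetherianRing A] [IsNoetherianRing B] (I : Ideal A)
    (q : Ideal B) [q.IsPrime] (hq : I.map (algebraMap A B) ≤ q)
    (h : ∀ n : ℕ, Module.Flat (A ⧸ I ^ n) ((A ⧸ I ^ n) ⊗[A] B)) :
    Module.Flat A (Localization.AtPrime q) := by
  refine FlatH4.flat_of_forall_pow (S := Localization.AtPrime q) I ?_ fun n P => ?_
  · rw [IsScalarTower.algebraMap_eq A B (Localization.AtPrime q), ← Ideal.map_map,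
      IsLocalRing.jacobson_eq_maximalIdeal _ bot_ne_top,
      ← Localization.AtPrime.map_eq_maximalIdeal]
    exact Ideal.map_mono hq
  · have hB : Module.IsTorsionBySet A (A ⧸ I ^ n) ((I ^ n : Ideal A) : Set A) := fun x r => by
      obtain ⟨x, rfl⟩ := Submodule.mkQ_surjective (I ^ n) x
      rw [← map_smul, Submodule.mkQ_apply]
      exact (Submodule.Quotient.mk_eq_zero _).2 ((I ^ n).mul_mem_right x r.2)
    have hinj : Function.Injective (P.subtype.baseChange B) := by
      have := FlatH4.lTensor_injective_of_flat_mod (M := B) (I ^ n) (h n)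
        (fun x r => Subtype.ext (@hB (x : A ⧸ I ^ n) r)) hB P.subtype P.injective_subtype
      intro x y hxy
      exact this hxy
    have key : ∀ x, P.subtype.lTensor (Localization.AtPrime q) x =
        AlgebraTensorModule.cancelBaseChange A B B (Localization.AtPrime q) (A ⧸ I ^ n)
          ((P.subtype.baseChange B).lTensor _
            ((AlgebraTensorModule.cancelBaseChange A B B (Localization.AtPrime q) P).symm x)) := by
      intro x
      induction x using TensorProduct.induction_on with
      | zero => simp
      | tmul a b => simp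
      | add x y hx hy => simp only [map_add, hx, hy]
    intro x y hxy
    rw [key, key] at hxy
    exact (LinearEquiv.injective _) <| Module.Flat.lTensor_preserves_injective_linearMap
      (M := Localization.AtPrime q) _ hinj ((LinearEquiv.injective _) hxy)

/-- A point over `V(I)` is smooth if all its infinitesimal neighbourhoods are smooth. -/
theorem isSmoothAt_of_forall [IsNoetherianRing A] [Algebra.FinitePresentation A B] (I : Ideal A)
    (q : Ideal B) [q.IsPrime] (hq : I.map (algebraMap A B) ≤ q)
    (h : ∀ n : ℕ, Algebra.Smooth (A ⧸ I ^ n) ((A ⧸ I ^ n) ⊗[A] B)) :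
    Algebra.IsSmoothAt A q := by
  haveI : IsNoetherianRing B := Algebra.FiniteType.isNoetherianRing A B
  haveI : Module.Flat A (Localization.AtPrime q) :=
    flat_localization_of_forall I q hq fun n => by
      haveI := h n
      infer_instance
  let p := q.under A
  have hp : I ^ 1 ≤ p := by
    rw [pow_one]
    exact Ideal.map_le_iff_le_comap.1 hq
  let φ : A ⧸ I ^ 1 →ₐ[A] p.ResidueField :=
    Ideal.Quotient.liftₐ (I ^ 1) (Algebra.ofId A p.ResidueField) fun a ha =>
      Ideal.algebraMap_residueField_eq_zero.2 (hp ha)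
  let := φ.toRingHom.toAlgebra
  haveI : IsScalarTower A (A ⧸ I ^ 1) p.ResidueField :=
    .of_algebraMap_eq fun a => (φ.commutes a).symm
  haveI := h 1
  haveI : Algebra.FormallySmooth p.ResidueField (p.Fiber B) :=
    Algebra.FormallySmooth.of_equiv
      (Algebra.TensorProduct.cancelBaseChange A (A ⧸ I ^ 1) p.ResidueField p.ResidueField B)
  exact isSmoothAt_of_formallySmooth_fiber p q

/-- A point over `V(I)` is étale if all its infinitesimal neighbourhoods are étale. -/
theorem isEtaleAt_of_forall [IsNoetherianRing A] [Algebra.FinitePresentation A B] (I : Ideal A)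
    (q : Ideal B) [q.IsPrime] (hq : I.map (algebraMap A B) ≤ q)
    (h : ∀ n : ℕ, Algebra.Etale (A ⧸ I ^ n) ((A ⧸ I ^ n) ⊗[A] B)) :
    Algebra.IsEtaleAt A q := by
  haveI := isSmoothAt_of_forall I q hq fun n => by
    haveI := h n
    infer_instance
  haveI : Algebra.IsUnramifiedAt A q := by
    let C := (A ⧸ I ^ 1) ⊗[A] B
    letI : Algebra B C := Algebra.TensorProduct.rightAlgebra
    haveI := h 1
    haveI : Subsingleton Ω[C⁄(A ⧸ I ^ 1)] := inferInstance
    haveI : Subsingleton (C ⊗[B] Ω[B⁄A]) :=
      (KaehlerDifferential.tensorKaehlerEquiv A (A ⧸ I ^ 1) B C).toEquiv.subsingleton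
    have hI : I ^ 1 ≤ q.comap (algebraMap A B) := by
      rw [pow_one]
      exact Ideal.map_le_iff_le_comap.1 hq
    let π : C →ₐ[A] B ⧸ q :=
      Algebra.TensorProduct.lift
        (Ideal.Quotient.liftₐ (I ^ 1) (Algebra.ofId A (B ⧸ q)) fun a ha =>
          Ideal.Quotient.eq_zero_iff_mem.2 (hI ha))
        (Ideal.Quotient.mkₐ A q) fun _ _ => .all _ _
    let π' : C →ₗ[B] B ⧸ q :=
      { toFun := π
        map_add' := map_add π
        map_smul' := fun b c => by
          rw [Algebra.smul_def, map_mul, RingHom.id_apply, Algebra.smul_def]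
          congr 1
          simp [π, C, RingHom.algebraMap_toAlgebra] }
    have hπ : Function.Surjective π' := by
      intro x
      obtain ⟨b, rfl⟩ := Ideal.Quotient.mk_surjective x
      refine ⟨1 ⊗ₜ b, ?_⟩
      change π (1 ⊗ₜ b) = _
      rw [Algebra.TensorProduct.lift_tmul, map_one, one_mul]
      rfl
    haveI : Subsingleton ((B ⧸ q) ⊗[B] Ω[B⁄A]) :=
      (LinearMap.rTensor_surjective Ω[B⁄A] hπ).subsingleton
    have hq' : q • (⊤ : Submodule B Ω[B⁄A]) = ⊤ := by
      rw [← Submodule.Quotient.subsingleton_iff]
      exact (TensorProduct.quotTensorEquivQuotSMul Ω[B⁄A] q).symm.toEquiv.subsingleton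
    obtain ⟨r, hr1, hr2⟩ := Submodule.exists_sub_one_mem_and_smul_eq_zero_of_fg_of_le_smul q
      (⊤ : Submodule B Ω[B⁄A]) Module.Finite.fg_top hq'.ge
    have hr : r ∉ q := fun hr => q.one_notMem (by simpa using q.sub_mem hr hr1)
    have : (⟨q, ‹q.IsPrime›⟩ : PrimeSpectrum B) ∈ Algebra.unramifiedLocus A B := by
      rw [Algebra.unramifiedLocus_eq_compl_support, Set.mem_compl_iff, Module.notMem_support_iff']
      exact fun m => ⟨r, hr, hr2 m trivial⟩
    exact this
  exact Algebra.FormallyEtale.of_formallyUnramified_and_formallySmooth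

end Groth.Agent.InfSmooth4
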